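import Cfsg.Agent.H9.Ot.Basic

set_option autoImplicit false
set_option linter.style.haveILetI false
set_option linter.unusedVariables false
set_option maxRecDepth 100000
set_option maxHeartbeats 0
set_option synthInstance.maxHeartbeats 0
set_option synthInstance.maxSize 1000

namespace Cfsg.Agent.H9.Ot

def i3_2 : Act (Z 3) (Z 2) where
  act q k := Multiplicative.ofAdd ((![1, 2] : Fin 2 → ZMod 3) q.toAdd * k.toAdd)
  one := by decide +kernel
  mul := by decide +kernel
  hom := by decide +kernel

def i7_2 : Act (Z 7) (Z 2) where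
  act q k := Multiplicative.ofAdd ((![1, 6] : Fin 2 → ZMod 7) q.toAdd * k.toAdd)
  one := by decide +kernel
  mul := by decide +kernel
  hom := by decide +kernel

def i4_2 : Act (Z 4) (Z 2) where
  act q k := Multiplicative.ofAdd ((![1, 3] : Fin 2 → ZMod 4) q.toAdd * k.toAdd)
  one := by decide +kernel
  mul := by decide +kernel
  hom := by decide +kernel

def i3_4 : Act (Z 3) (Z 4) where
  act q k := Multiplicative.ofAdd ((![1, 2, 1, 2] : Fin 4 → ZMod 3) q.toAdd * k.toAdd)
  one := by decide +kernel
  mul := by decide +kernel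
  hom := by decide +kernel

def i7_4 : Act (Z 7) (Z 4) where
  act q k := Multiplicative.ofAdd ((![1, 6, 1, 6] : Fin 4 → ZMod 7) q.toAdd * k.toAdd)
  one := by decide +kernel
  mul := by decide +kernel
  hom := by decide +kernel

def c7_3 : Act (Z 7) (Z 3) where
  act q k := Multiplicative.ofAdd ((![1, 2, 4] : Fin 3 → ZMod 7) q.toAdd * k.toAdd)
  one := by decide +kernel
  mul := by decide +kernel
  hom := by decide +kernel

def sw2 : Act (Z 2 × Z 2) (Z 2) where
  act q k := (Multiplicative.ofAdd ((![1, 0] : Fin 2 → ZMod 2) q.toAdd * k.1.toAdd + (![0, 1] : Fin 2 → ZMod 2) q.toAdd * k.2.toAdd), Multiplicative.ofAdd ((![0, 1] : Fin 2 → ZMod 2) q.toAdd * k.1.toAdd + (![1, 0] : Fin 2 → ZMod 2) q.toAdd * k.2.toAdd))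
  one := by decide +kernel
  mul := by decide +kernel
  hom := by decide +kernel

def w3 : Act (Z 2 × Z 2) (Z 3) where
  act q k := (Multiplicative.ofAdd ((![1, 0, 1] : Fin 3 → ZMod 2) q.toAdd * k.1.toAdd + (![0, 1, 1] : Fin 3 → ZMod 2) q.toAdd * k.2.toAdd), Multiplicative.ofAdd ((![0, 1, 1] : Fin 3 → ZMod 2) q.toAdd * k.1.toAdd + (![1, 1, 0] : Fin 3 → ZMod 2) q.toAdd * k.2.toAdd))
  one := by decide +kernel
  mul := by decide +kernel
  hom := by decide +kernel

def w4_3 : Act (Z 4 × Z 4) (Z 3) where
  act q k := (Multiplicative.ofAdd ((![1, 0, 3] : Fin 3 → ZMod 4) q.toAdd * k.1.toAdd + (![0, 1, 3] : Fin 3 → ZMod 4) q.toAdd * k.2.toAdd), Multiplicative.ofAdd ((![0, 3, 1] : Fin 3 → ZMod 4) q.toAdd * k.1.toAdd + (![1, 3, 0] : Fin 3 → ZMod 4) q.toAdd * k.2.toAdd))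
  one := by decide +kernel
  mul := by decide +kernel
  hom := by decide +kernel

def c76_12 : Act (Z 7) (Z 12) where
  act q k := Multiplicative.ofAdd ((![1, 3, 2, 6, 4, 5, 1, 3, 2, 6, 4, 5] : Fin 12 → ZMod 7) q.toAdd * k.toAdd)
  one := by decide +kernel
  mul := by decide +kernel
  hom := by decide +kernel

def i4_6 : Act (Z 4) (Z 6) where
  act q k := Multiplicative.ofAdd ((![1, 3, 1, 3, 1, 3] : Fin 6 → ZMod 4) q.toAdd * k.toAdd)
  one := by decide +kernel
  mul := by decide +kernel
  hom := by decide +kernel

def c76_6 : Act (Z 7) (Z 6) where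
  act q k := Multiplicative.ofAdd ((![1, 3, 2, 6, 4, 5] : Fin 6 → ZMod 7) q.toAdd * k.toAdd)
  one := by decide +kernel
  mul := by decide +kernel
  hom := by decide +kernel

def i7_6 : Act (Z 7) (Z 6) where
  act q k := Multiplicative.ofAdd ((![1, 6, 1, 6, 1, 6] : Fin 6 → ZMod 7) q.toAdd * k.toAdd)
  one := by decide +kernel
  mul := by decide +kernel
  hom := by decide +kernel

def c73_6 : Act (Z 7) (Z 6) where
  act q k := Multiplicative.ofAdd ((![1, 2, 4, 1, 2, 4] : Fin 6 → ZMod 7) q.toAdd * k.toAdd)
  one := by decide +kernel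
  mul := by decide +kernel
  hom := by decide +kernel

def w46 : Act (Z 4 × Z 4) (Z 6) where
  act q k := (Multiplicative.ofAdd ((![1, 0, 3, 3, 0, 1] : Fin 6 → ZMod 4) q.toAdd * k.1.toAdd + (![0, 3, 3, 0, 1, 1] : Fin 6 → ZMod 4) q.toAdd * k.2.toAdd), Multiplicative.ofAdd ((![0, 1, 1, 0, 3, 3] : Fin 6 → ZMod 4) q.toAdd * k.1.toAdd + (![1, 1, 0, 3, 3, 0] : Fin 6 → ZMod 4) q.toAdd * k.2.toAdd))
  one := by decide +kernel
  mul := by decide +kernel
  hom := by decide +kernel

def c27 : Act (Z 2 × Z 2 × Z 2) (Z 7) where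
  act q k := (Multiplicative.ofAdd ((![1, 0, 0, 1, 0, 1, 1] : Fin 7 → ZMod 2) q.toAdd * k.1.toAdd + (![0, 1, 0, 1, 1, 1, 0] : Fin 7 → ZMod 2) q.toAdd * k.2.1.toAdd + (![0, 0, 1, 0, 1, 1, 1] : Fin 7 → ZMod 2) q.toAdd * k.2.2.toAdd), Multiplicative.ofAdd ((![0, 0, 1, 0, 1, 1, 1] : Fin 7 → ZMod 2) q.toAdd * k.1.toAdd + (![1, 0, 1, 1, 1, 0, 0] : Fin 7 → ZMod 2) q.toAdd * k.2.1.toAdd + (![0, 1, 0, 1, 1, 1, 0] : Fin 7 → ZMod 2) q.toAdd * k.2.2.toAdd), Multiplicative.ofAdd ((![0, 1, 0, 1, 1, 1, 0] : Fin 7 → ZMod 2) q.toAdd * k.1.toAdd + (![0, 1, 1, 1, 0, 0, 1] : Fin 7 → ZMod 2) q.toAdd * k.2.1.toAdd + (![1, 0, 1, 1, 1, 0, 0] : Fin 7 → ZMod 2) q.toAdd * k.2.2.toAdd))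
  one := by decide +kernel
  mul := by decide +kernel
  hom := by decide +kernel

def c47 : Act (Z 4 × Z 4 × Z 4) (Z 7) where
  act q k := (Multiplicative.ofAdd ((![1, 0, 0, 1, 2, 3, 1] : Fin 7 → ZMod 4) q.toAdd * k.1.toAdd + (![0, 1, 0, 3, 3, 3, 2] : Fin 7 → ZMod 4) q.toAdd * k.2.1.toAdd + (![0, 0, 1, 2, 3, 1, 1] : Fin 7 → ZMod 4) q.toAdd * k.2.2.toAdd), Multiplicative.ofAdd ((![0, 0, 1, 2, 3, 1, 1] : Fin 7 → ZMod 4) q.toAdd * k.1.toAdd + (![1, 0, 3, 3, 3, 2, 0] : Fin 7 → ZMod 4) q.toAdd * k.2.1.toAdd + (![0, 1, 2, 3, 1, 1, 0] : Fin 7 → ZMod 4) q.toAdd * k.2.2.toAdd), Multiplicative.ofAdd ((![0, 1, 2, 3, 1, 1, 0] : Fin 7 → ZMod 4) q.toAdd * k.1.toAdd + (![0, 3, 3, 3, 2, 0, 1] : Fin 7 → ZMod 4) q.toAdd * k.2.1.toAdd + (![1, 2, 3, 1, 1, 0, 0] : Fin 7 → ZMod 4) q.toAdd * k.2.2.toAdd))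
  one := by decide +kernel
  mul := by decide +kernel
  hom := by decide +kernel

def cC : Act (Z 2 × Z 2 × Z 2) (Z 7) where
  act q k := (Multiplicative.ofAdd ((![1, 0, 0, 1, 0, 1, 1] : Fin 7 → ZMod 2) q.toAdd * k.1.toAdd + (![0, 0, 1, 0, 1, 1, 1] : Fin 7 → ZMod 2) q.toAdd * k.2.1.toAdd + (![0, 1, 0, 1, 1, 1, 0] : Fin 7 → ZMod 2) q.toAdd * k.2.2.toAdd), Multiplicative.ofAdd ((![0, 1, 0, 1, 1, 1, 0] : Fin 7 → ZMod 2) q.toAdd * k.1.toAdd + (![1, 0, 1, 1, 1, 0, 0] : Fin 7 → ZMod 2) q.toAdd * k.2.1.toAdd + (![0, 1, 1, 1, 0, 0, 1] : Fin 7 → ZMod 2) q.toAdd * k.2.2.toAdd), Multiplicative.ofAdd ((![0, 0, 1, 0, 1, 1, 1] : Fin 7 → ZMod 2) q.toAdd * k.1.toAdd + (![0, 1, 0, 1, 1, 1, 0] : Fin 7 → ZMod 2) q.toAdd * k.2.1.toAdd + (![1, 0, 1, 1, 1, 0, 0] : Fin 7 → ZMod 2) q.toAdd * k.2.2.toAdd))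
  one := by decide +kernel
  mul := by decide +kernel
  hom := by decide +kernel

def cF : Act (Z 2 × Z 2 × Z 2) (Z 3) where
  act q k := (Multiplicative.ofAdd ((![1, 1, 1] : Fin 3 → ZMod 2) q.toAdd * k.1.toAdd + (![0, 0, 0] : Fin 3 → ZMod 2) q.toAdd * k.2.1.toAdd + (![0, 0, 0] : Fin 3 → ZMod 2) q.toAdd * k.2.2.toAdd), Multiplicative.ofAdd ((![0, 0, 0] : Fin 3 → ZMod 2) q.toAdd * k.1.toAdd + (![1, 0, 1] : Fin 3 → ZMod 2) q.toAdd * k.2.1.toAdd + (![0, 1, 1] : Fin 3 → ZMod 2) q.toAdd * k.2.2.toAdd), Multiplicative.ofAdd ((![0, 0, 0] : Fin 3 → ZMod 2) q.toAdd * k.1.toAdd + (![0, 1, 1] : Fin 3 → ZMod 2) q.toAdd * k.2.1.toAdd + (![1, 1, 0] : Fin 3 → ZMod 2) q.toAdd * k.2.2.toAdd))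
  one := by decide +kernel
  mul := by decide +kernel
  hom := by decide +kernel

def S3 := SD i3_2
instance : Group S3 := inferInstanceAs (Group (SD i3_2))
instance : DecidableEq S3 := inferInstanceAs (DecidableEq (SD i3_2))
instance : Fintype S3 := inferInstanceAs (Fintype (SD i3_2))
instance : Group.IsSolvable S3 := SD.solv _
def aS3 : Act (Z 2 × Z 2) S3 where
  act q k := w3.act q.1 (sw2.act q.2 k)
  one := by decide +kernel
  mul := by decide +kernel
  hom := by decide +kernel
def F21 := SD c7_3
instance : Group F21 := inferInstanceAs (Group (SD c7_3))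
instance : DecidableEq F21 := inferInstanceAs (DecidableEq (SD c7_3))
instance : Fintype F21 := inferInstanceAs (Fintype (SD c7_3))
instance : Group.IsSolvable F21 := SD.solv _
def aF21 : Act (Z 2 × Z 2 × Z 2) F21 where
  act q k := cC.act q.1 (cF.act q.2 k)
  one := by decide +kernel
  mul := by decide +kernel
  hom := by decide +kernel
def v3a : Act (Z 3) (Z 2 × Z 2) where
  act q k := i3_2.act q.1 k
  one := by decide +kernel
  mul := by decide +kernel
  hom := by decide +kernel
def v7b : Act (Z 7) (Z 2 × Z 2) where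
  act q k := i7_2.act q.2 k
  one := by decide +kernel
  mul := by decide +kernel
  hom := by decide +kernel
def v4c : Act (Z 4) (Z 2 × Z 2) where
  act q k := i4_2.act (q.1 * q.2) k
  one := by decide +kernel
  mul := by decide +kernel
  hom := by decide +kernel

/-- C2 of order 2 -/
def A1 : Type := Z 2

instance : Group A1 := inferInstanceAs (Group (Z 2))
instance : DecidableEq A1 := inferInstanceAs (DecidableEq (Z 2))
instance : Fintype A1 := inferInstanceAs (Fintype (Z 2))

instance : Group.IsSolvable A1 := inferInstanceAs (Group.IsSolvable (Z 2))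

def t1 : ℕ → ℕ := fun n => if n = 2 then 2 else if n = 3 then 1 else if n = 4 then 2 else if n = 6 then 2 else if n = 7 then 1 else if n = 12 then 2 else if n = 14 then 2 else if n = 21 then 1 else if n = 28 then 2 else if n = 42 then 2 else if n = 84 then 2 else 0

theorem p1 : Prof A1 t1 := Prof.of _ (by decide +kernel) (by decide +kernel)

/-- C4 of order 4 -/
def A2 : Type := Z 4

instance : Group A2 := inferInstanceAs (Group (Z 4))
instance : DecidableEq A2 := inferInstanceAs (DecidableEq (Z 4))
instance : Fintype A2 := inferInstanceAs (Fintype (Z 4))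

instance : Group.IsSolvable A2 := inferInstanceAs (Group.IsSolvable (Z 4))

def t2 : ℕ → ℕ := fun n => if n = 2 then 2 else if n = 3 then 1 else if n = 4 then 4 else if n = 6 then 2 else if n = 7 then 1 else if n = 12 then 4 else if n = 14 then 2 else if n = 21 then 1 else if n = 28 then 4 else if n = 42 then 2 else if n = 84 then 4 else 0

theorem p2 : Prof A2 t2 := Prof.of _ (by decide +kernel) (by decide +kernel)

/-- C7 of order 7 -/
def A3 : Type := Z 7

instance : Group A3 := inferInstanceAs (Group (Z 7))
instance : DecidableEq A3 := inferInstanceAs (DecidableEq (Z 7))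
instance : Fintype A3 := inferInstanceAs (Fintype (Z 7))

instance : Group.IsSolvable A3 := inferInstanceAs (Group.IsSolvable (Z 7))

def t3 : ℕ → ℕ := fun n => if n = 2 then 1 else if n = 3 then 1 else if n = 4 then 1 else if n = 6 then 1 else if n = 7 then 7 else if n = 12 then 1 else if n = 14 then 7 else if n = 21 then 7 else if n = 28 then 7 else if n = 42 then 7 else if n = 84 then 7 else 0

theorem p3 : Prof A3 t3 := Prof.of _ (by decide +kernel) (by decide +kernel)

/-- (2^2s):C2 of order 8 -/
def A4 : Type := SD sw2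

instance : Group A4 := inferInstanceAs (Group (SD sw2))
instance : DecidableEq A4 := inferInstanceAs (DecidableEq (SD sw2))
instance : Fintype A4 := inferInstanceAs (Fintype (SD sw2))

instance : Group.IsSolvable A4 := SD.solv _

def t4 : ℕ → ℕ := fun n => if n = 2 then 6 else if n = 3 then 1 else if n = 4 then 8 else if n = 6 then 6 else if n = 7 then 1 else if n = 12 then 8 else if n = 14 then 6 else if n = 21 then 1 else if n = 28 then 8 else if n = 42 then 6 else if n = 84 then 8 else 0

theorem p4 : Prof A4 t4 := Prof.of _ (by decide +kernel) (by decide +kernel)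

/-- (2^2c3):C3 of order 12 -/
def A5 : Type := SD w3

instance : Group A5 := inferInstanceAs (Group (SD w3))
instance : DecidableEq A5 := inferInstanceAs (DecidableEq (SD w3))
instance : Fintype A5 := inferInstanceAs (Fintype (SD w3))

instance : Group.IsSolvable A5 := SD.solv _

def t5 : ℕ → ℕ := fun n => if n = 2 then 4 else if n = 3 then 9 else if n = 4 then 4 else if n = 6 then 12 else if n = 7 then 1 else if n = 12 then 12 else if n = 14 then 4 else if n = 21 then 9 else if n = 28 then 4 else if n = 42 then 12 else if n = 84 then 12 else 0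

theorem p5 : Prof A5 t5 := Prof.of _ (by decide +kernel) (by decide +kernel)

/-- (3-x3-):C2 of order 18 -/
def A6 : Type := SD (Act.prod i3_2 i3_2)

instance : Group A6 := inferInstanceAs (Group (SD (Act.prod i3_2 i3_2)))
instance : DecidableEq A6 := inferInstanceAs (DecidableEq (SD (Act.prod i3_2 i3_2)))
instance : Fintype A6 := inferInstanceAs (Fintype (SD (Act.prod i3_2 i3_2)))

instance : Group.IsSolvable A6 := SD.solv _

def t6 : ℕ → ℕ := fun n => if n = 2 then 10 else if n = 3 then 9 else if n = 4 then 10 else if n = 6 then 18 else if n = 7 then 1 else if n = 12 then 18 else if n = 14 then 10 else if n = 21 then 9 else if n = 28 then 10 else if n = 42 then 18 else if n = 84 then 18 else 0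

theorem p6 : Prof A6 t6 := Prof.of _ (by decide +kernel) (by decide +kernel)

/-- (7c3):C3 of order 21 -/
def A7 : Type := SD c7_3

instance : Group A7 := inferInstanceAs (Group (SD c7_3))
instance : DecidableEq A7 := inferInstanceAs (DecidableEq (SD c7_3))
instance : Fintype A7 := inferInstanceAs (Fintype (SD c7_3))

instance : Group.IsSolvable A7 := SD.solv _

def t7 : ℕ → ℕ := fun n => if n = 2 then 1 else if n = 3 then 15 else if n = 4 then 1 else if n = 6 then 15 else if n = 7 then 7 else if n = 12 then 15 else if n = 14 then 7 else if n = 21 then 21 else if n = 28 then 7 else if n = 42 then 21 else if n = 84 then 21 else 0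

theorem p7 : Prof A7 t7 := Prof.of _ (by decide +kernel) (by decide +kernel)

/-- (4-x3-):C2 of order 24 -/
def A8 : Type := SD (Act.prod i4_2 i3_2)

instance : Group A8 := inferInstanceAs (Group (SD (Act.prod i4_2 i3_2)))
instance : DecidableEq A8 := inferInstanceAs (DecidableEq (SD (Act.prod i4_2 i3_2)))
instance : Fintype A8 := inferInstanceAs (Fintype (SD (Act.prod i4_2 i3_2)))

instance : Group.IsSolvable A8 := SD.solv _

def t8 : ℕ → ℕ := fun n => if n = 2 then 14 else if n = 3 then 3 else if n = 4 then 16 else if n = 6 then 18 else if n = 7 then 1 else if n = 12 then 24 else if n = 14 then 14 else if n = 21 then 3 else if n = 28 then 16 else if n = 42 then 18 else if n = 84 then 24 else 0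

theorem p8 : Prof A8 t8 := Prof.of _ (by decide +kernel) (by decide +kernel)

/-- (2^2):S3 of order 24 -/
def A9 : Type := SD aS3

instance : Group A9 := inferInstanceAs (Group (SD aS3))
instance : DecidableEq A9 := inferInstanceAs (DecidableEq (SD aS3))
instance : Fintype A9 := inferInstanceAs (Fintype (SD aS3))

instance : Group.IsSolvable A9 := SD.solv _

def t9 : ℕ → ℕ := fun n => if n = 2 then 10 else if n = 3 then 9 else if n = 4 then 16 else if n = 6 then 18 else if n = 7 then 1 else if n = 12 then 24 else if n = 14 then 10 else if n = 21 then 9 else if n = 28 then 16 else if n = 42 then 18 else if n = 84 then 24 else 0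

theorem p9 : Prof A9 t9 := Prof.of _ (by decide +kernel) (by decide +kernel)

/-- (7-):C4 of order 28 -/
def A10 : Type := SD i7_4

instance : Group A10 := inferInstanceAs (Group (SD i7_4))
instance : DecidableEq A10 := inferInstanceAs (DecidableEq (SD i7_4))
instance : Fintype A10 := inferInstanceAs (Fintype (SD i7_4))

instance : Group.IsSolvable A10 := SD.solv _

def t10 : ℕ → ℕ := fun n => if n = 2 then 2 else if n = 3 then 1 else if n = 4 then 16 else if n = 6 then 2 else if n = 7 then 7 else if n = 12 then 16 else if n = 14 then 14 else if n = 21 then 7 else if n = 28 then 28 else if n = 42 then 14 else if n = 84 then 28 else 0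

theorem p10 : Prof A10 t10 := Prof.of _ (by decide +kernel) (by decide +kernel)

/-- (3-x3-):C4 of order 36 -/
def A11 : Type := SD (Act.prod i3_4 i3_4)

instance : Group A11 := inferInstanceAs (Group (SD (Act.prod i3_4 i3_4)))
instance : DecidableEq A11 := inferInstanceAs (DecidableEq (SD (Act.prod i3_4 i3_4)))
instance : Fintype A11 := inferInstanceAs (Fintype (SD (Act.prod i3_4 i3_4)))

instance : Group.IsSolvable A11 := SD.solv _

def t11 : ℕ → ℕ := fun n => if n = 2 then 2 else if n = 3 then 9 else if n = 4 then 20 else if n = 6 then 18 else if n = 7 then 1 else if n = 12 then 36 else if n = 14 then 2 else if n = 21 then 9 else if n = 28 then 20 else if n = 42 then 18 else if n = 84 then 36 else 0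

theorem p11 : Prof A11 t11 := Prof.of _ (by decide +kernel) (by decide +kernel)

/-- (3-x7-):C2 of order 42 -/
def A12 : Type := SD (Act.prod i3_2 i7_2)

instance : Group A12 := inferInstanceAs (Group (SD (Act.prod i3_2 i7_2)))
instance : DecidableEq A12 := inferInstanceAs (DecidableEq (SD (Act.prod i3_2 i7_2)))
instance : Fintype A12 := inferInstanceAs (Fintype (SD (Act.prod i3_2 i7_2)))

instance : Group.IsSolvable A12 := SD.solv _

def t12 : ℕ → ℕ := fun n => if n = 2 then 22 else if n = 3 then 3 else if n = 4 then 22 else if n = 6 then 24 else if n = 7 then 7 else if n = 12 then 24 else if n = 14 then 28 else if n = 21 then 21 else if n = 28 then 28 else if n = 42 then 42 else if n = 84 then 42 else 0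

theorem p12 : Prof A12 t12 := Prof.of _ (by decide +kernel) (by decide +kernel)

/-- (4-x7-):C2 of order 56 -/
def A13 : Type := SD (Act.prod i4_2 i7_2)

instance : Group A13 := inferInstanceAs (Group (SD (Act.prod i4_2 i7_2)))
instance : DecidableEq A13 := inferInstanceAs (DecidableEq (SD (Act.prod i4_2 i7_2)))
instance : Fintype A13 := inferInstanceAs (Fintype (SD (Act.prod i4_2 i7_2)))

instance : Group.IsSolvable A13 := SD.solv _

def t13 : ℕ → ℕ := fun n => if n = 2 then 30 else if n = 3 then 1 else if n = 4 then 32 else if n = 6 then 30 else if n = 7 then 7 else if n = 12 then 32 else if n = 14 then 42 else if n = 21 then 7 else if n = 28 then 56 else if n = 42 then 42 else if n = 84 then 56 else 0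

theorem p13 : Prof A13 t13 := Prof.of _ (by decide +kernel) (by decide +kernel)

/-- (3-x7-):C4 of order 84 -/
def A14 : Type := SD (Act.prod i3_4 i7_4)

instance : Group A14 := inferInstanceAs (Group (SD (Act.prod i3_4 i7_4)))
instance : DecidableEq A14 := inferInstanceAs (DecidableEq (SD (Act.prod i3_4 i7_4)))
instance : Fintype A14 := inferInstanceAs (Fintype (SD (Act.prod i3_4 i7_4)))

instance : Group.IsSolvable A14 := SD.solv _

def t14 : ℕ → ℕ := fun n => if n = 2 then 2 else if n = 3 then 3 else if n = 4 then 44 else if n = 6 then 6 else if n = 7 then 7 else if n = 12 then 48 else if n = 14 then 14 else if n = 21 then 21 else if n = 28 then 56 else if n = 42 then 42 else if n = 84 then 84 else 0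

theorem p14 : Prof A14 t14 := Prof.of _ (by decide +kernel) (by decide +kernel)

/-- (7c6):C12 of order 84 -/
def A15 : Type := SD c76_12

instance : Group A15 := inferInstanceAs (Group (SD c76_12))
instance : DecidableEq A15 := inferInstanceAs (DecidableEq (SD c76_12))
instance : Fintype A15 := inferInstanceAs (Fintype (SD c76_12))

instance : Group.IsSolvable A15 := SD.solv _

def t15 : ℕ → ℕ := fun n => if n = 2 then 2 else if n = 3 then 15 else if n = 4 then 16 else if n = 6 then 30 else if n = 7 then 7 else if n = 12 then 72 else if n = 14 then 14 else if n = 21 then 21 else if n = 28 then 28 else if n = 42 then 42 else if n = 84 then 84 else 0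

theorem p15 : Prof A15 t15 := Prof.of _ (by decide +kernel) (by decide +kernel)

/-- (7-x7-):C2 of order 98 -/
def A16 : Type := SD (Act.prod i7_2 i7_2)

instance : Group A16 := inferInstanceAs (Group (SD (Act.prod i7_2 i7_2)))
instance : DecidableEq A16 := inferInstanceAs (DecidableEq (SD (Act.prod i7_2 i7_2)))
instance : Fintype A16 := inferInstanceAs (Fintype (SD (Act.prod i7_2 i7_2)))

instance : Group.IsSolvable A16 := SD.solv _

def t16 : ℕ → ℕ := fun n => if n = 2 then 50 else if n = 3 then 1 else if n = 4 then 50 else if n = 6 then 50 else if n = 7 then 49 else if n = 12 then 50 else if n = 14 then 98 else if n = 21 then 49 else if n = 28 then 98 else if n = 42 then 98 else if n = 84 then 98 else 0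

theorem p16 : Prof A16 t16 := Prof.of _ (by decide +kernel) (by decide +kernel)

/-- (4-x7c6):C6 of order 168 -/
def A17 : Type := SD (Act.prod i4_6 c76_6)

instance : Group A17 := inferInstanceAs (Group (SD (Act.prod i4_6 c76_6)))
instance : DecidableEq A17 := inferInstanceAs (DecidableEq (SD (Act.prod i4_6 c76_6)))
instance : Fintype A17 := inferInstanceAs (Fintype (SD (Act.prod i4_6 c76_6)))

instance : Group.IsSolvable A17 := SD.solv _

def t17 : ℕ → ℕ := fun n => if n = 2 then 30 else if n = 3 then 15 else if n = 4 then 32 else if n = 6 then 114 else if n = 7 then 7 else if n = 12 then 144 else if n = 14 then 42 else if n = 21 then 21 else if n = 28 then 56 else if n = 42 then 126 else if n = 84 then 168 else 0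

theorem p17 : Prof A17 t17 := Prof.of _ (by decide +kernel) (by decide +kernel)

/-- (2^3):7:3 of order 168 -/
def A18 : Type := SD aF21

instance : Group A18 := inferInstanceAs (Group (SD aF21))
instance : DecidableEq A18 := inferInstanceAs (DecidableEq (SD aF21))
instance : Fintype A18 := inferInstanceAs (Fintype (SD aF21))

instance : Group.IsSolvable A18 := SD.solv _

def t18 : ℕ → ℕ := fun n => if n = 2 then 8 else if n = 3 then 57 else if n = 4 then 8 else if n = 6 then 120 else if n = 7 then 49 else if n = 12 then 120 else if n = 14 then 56 else if n = 21 then 105 else if n = 28 then 56 else if n = 42 then 168 else if n = 84 then 168 else 0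

theorem p18 : Prof A18 t18 := Prof.of _ (by decide +kernel) (by decide +kernel)

/-- (7-x7c6):C6 of order 294 -/
def A19 : Type := SD (Act.prod i7_6 c76_6)

instance : Group A19 := inferInstanceAs (Group (SD (Act.prod i7_6 c76_6)))
instance : DecidableEq A19 := inferInstanceAs (DecidableEq (SD (Act.prod i7_6 c76_6)))
instance : Fintype A19 := inferInstanceAs (Fintype (SD (Act.prod i7_6 c76_6)))

instance : Group.IsSolvable A19 := SD.solv _

def t19 : ℕ → ℕ := fun n => if n = 2 then 50 else if n = 3 then 15 else if n = 4 then 50 else if n = 6 then 162 else if n = 7 then 49 else if n = 12 then 162 else if n = 14 then 98 else if n = 21 then 147 else if n = 28 then 98 else if n = 42 then 294 else if n = 84 then 294 else 0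

theorem p19 : Prof A19 t19 := Prof.of _ (by decide +kernel) (by decide +kernel)

/-- (4^2c3x7c3):C3 of order 336 -/
def A20 : Type := SD (Act.prod w4_3 c7_3)

instance : Group A20 := inferInstanceAs (Group (SD (Act.prod w4_3 c7_3)))
instance : DecidableEq A20 := inferInstanceAs (DecidableEq (SD (Act.prod w4_3 c7_3)))
instance : Fintype A20 := inferInstanceAs (Fintype (SD (Act.prod w4_3 c7_3)))

instance : Group.IsSolvable A20 := SD.solv _

def t20 : ℕ → ℕ := fun n => if n = 2 then 4 else if n = 3 then 225 else if n = 4 then 16 else if n = 6 then 228 else if n = 7 then 7 else if n = 12 then 240 else if n = 14 then 28 else if n = 21 then 231 else if n = 28 then 112 else if n = 42 then 252 else if n = 84 then 336 else 0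

theorem p20 : Prof A20 t20 := Prof.of _ (by decide +kernel) (by decide +kernel)

/-- (3ax7bx4c):V4 of order 336 -/
def A21 : Type := SD (Act.prod v3a (Act.prod v7b v4c))

instance : Group A21 := inferInstanceAs (Group (SD (Act.prod v3a (Act.prod v7b v4c))))
instance : DecidableEq A21 := inferInstanceAs (DecidableEq (SD (Act.prod v3a (Act.prod v7b v4c))))
instance : Fintype A21 := inferInstanceAs (Fintype (SD (Act.prod v3a (Act.prod v7b v4c))))

instance : Group.IsSolvable A21 := SD.solv _

def t21 : ℕ → ℕ := fun n => if n = 2 then 84 else if n = 3 then 3 else if n = 4 then 128 else if n = 6 then 144 else if n = 7 then 7 else if n = 12 then 192 else if n = 14 then 168 else if n = 21 then 21 else if n = 28 then 224 else if n = 42 then 252 else if n = 84 then 336 else 0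

theorem p21 : Prof A21 t21 := Prof.of _ (by decide +kernel) (by decide +kernel)

/-- (4^3c7):C7 of order 448 -/
def A22 : Type := SD c47

instance : Group A22 := inferInstanceAs (Group (SD c47))
instance : DecidableEq A22 := inferInstanceAs (DecidableEq (SD c47))
instance : Fintype A22 := inferInstanceAs (Fintype (SD c47))

instance : Group.IsSolvable A22 := SD.solv _

def t22 : ℕ → ℕ := fun n => if n = 2 then 8 else if n = 3 then 1 else if n = 4 then 64 else if n = 6 then 8 else if n = 7 then 385 else if n = 12 then 64 else if n = 14 then 392 else if n = 21 then 385 else if n = 28 then 448 else if n = 42 then 392 else if n = 84 then 448 else 0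

theorem p22 : Prof A22 t22 := Prof.of _ (by decide +kernel) (by decide +kernel)

/-- (2^3c7x2^3c7):C7 of order 448 -/
def A23 : Type := SD (Act.prod c27 c27)

instance : Group A23 := inferInstanceAs (Group (SD (Act.prod c27 c27)))
instance : DecidableEq A23 := inferInstanceAs (DecidableEq (SD (Act.prod c27 c27)))
instance : Fintype A23 := inferInstanceAs (Fintype (SD (Act.prod c27 c27)))

instance : Group.IsSolvable A23 := SD.solv _

def t23 : ℕ → ℕ := fun n => if n = 2 then 64 else if n = 3 then 1 else if n = 4 then 64 else if n = 6 then 64 else if n = 7 then 385 else if n = 12 then 64 else if n = 14 then 448 else if n = 21 then 385 else if n = 28 then 448 else if n = 42 then 448 else if n = 84 then 448 else 0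

theorem p23 : Prof A23 t23 := Prof.of _ (by decide +kernel) (by decide +kernel)

/-- (4^2c6x7c3):C6 of order 672 -/
def A24 : Type := SD (Act.prod w46 c73_6)

instance : Group A24 := inferInstanceAs (Group (SD (Act.prod w46 c73_6)))
instance : DecidableEq A24 := inferInstanceAs (DecidableEq (SD (Act.prod w46 c73_6)))
instance : Fintype A24 := inferInstanceAs (Fintype (SD (Act.prod w46 c73_6)))

instance : Group.IsSolvable A24 := SD.solv _

def t24 : ℕ → ℕ := fun n => if n = 2 then 20 else if n = 3 then 225 else if n = 4 then 32 else if n = 6 then 468 else if n = 7 then 7 else if n = 12 then 480 else if n = 14 then 140 else if n = 21 then 231 else if n = 28 then 224 else if n = 42 then 588 else if n = 84 then 672 else 0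

theorem p24 : Prof A24 t24 := Prof.of _ (by decide +kernel) (by decide +kernel)

end Cfsg.Agent.H9.Ot
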